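import Mathlib

/-!
# Elementary bounds: Landau, involution pairs, four groups on groups of odd order
-/

namespace CfsgLib.Deficiency

set_option linter.unusedVariables false
set_option linter.unusedSectionVars false

universe u

/-- A multiset of at most `k` positive integers with prescribed reciprocal sum is bounded. -/
theorem landau_multiset (k : ℕ) : ∀ x : ℚ, ∃ N : ℕ, ∀ s : Multiset ℕ, Multiset.card s ≤ k →
    (∀ n ∈ s, 0 < n) → (s.map fun n : ℕ => (1 : ℚ) / n).sum = x → ∀ n ∈ s, n ≤ N := by
  induction k with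
  | zero =>
    intro x
    refine ⟨0, fun s hs _ _ n hn => ?_⟩
    rw [Multiset.card_eq_zero.1 (Nat.le_zero.1 hs)] at hn
    simp at hn
  | succ k ih =>
    intro x
    choose F hF using ih
    refine ⟨(Finset.range (⌊((k : ℚ) + 1) / x⌋₊ + 1)).sup fun m : ℕ =>
      max m (F (x - (1 : ℚ) / m)), fun s hs hpos hsum n hn => ?_⟩
    classical
    obtain ⟨m, hm, hmin⟩ := s.toFinset.exists_min_image id ⟨n, Multiset.mem_toFinset.2 hn⟩
    rw [Multiset.mem_toFinset] at hm
    have hm0 : (0 : ℚ) < m := by exact_mod_cast hpos m hm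
    have hle : ∀ i ∈ s.map (fun n : ℕ => (1 : ℚ) / n), i ≤ (1 : ℚ) / m := by
      intro i hi
      obtain ⟨j, hj, rfl⟩ := Multiset.mem_map.1 hi
      exact one_div_le_one_div_of_le hm0 (by exact_mod_cast hmin j (Multiset.mem_toFinset.2 hj))
    have hsplit := Multiset.sum_map_erase (f := fun n : ℕ => (1 : ℚ) / n) hm
    rw [hsum] at hsplit
    have hxpos : 0 < x := by
      have h0 : 0 ≤ ((s.erase m).map fun n : ℕ => (1 : ℚ) / n).sum :=
        Multiset.sum_nonneg fun i hi => by
          obtain ⟨j, -, rfl⟩ := Multiset.mem_map.1 hi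
          positivity
      have : (0 : ℚ) < 1 / m := by positivity
      linarith
    have hx : x ≤ ((k : ℚ) + 1) / m := by
      have h1 := Multiset.sum_le_card_nsmul _ _ hle
      rw [Multiset.card_map, hsum, nsmul_eq_mul] at h1
      refine h1.trans ?_
      rw [mul_one_div]
      have : (Multiset.card s : ℚ) ≤ (k : ℚ) + 1 := by exact_mod_cast hs
      exact div_le_div_of_nonneg_right this hm0.le
    have hmle : m ≤ ⌊((k : ℚ) + 1) / x⌋₊ := by
      refine Nat.le_floor ?_
      rw [le_div_iff₀ hxpos]
      rw [le_div_iff₀ hm0] at hx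
      linarith
    refine le_trans ?_ (Finset.le_sup (f := fun m : ℕ => max m (F (x - (1 : ℚ) / m)))
      (b := m) (Finset.mem_range.2 (by omega)))
    by_cases hnm : n = m
    · subst hnm; exact le_max_left _ _
    · refine le_trans ?_ (le_max_right _ _)
      refine hF _ (s.erase m) ?_ (fun j hj => hpos j (Multiset.mem_of_mem_erase hj))
        (by linarith) n ((Multiset.mem_erase_of_ne hnm).2 hn)
      rw [Multiset.card_erase_of_mem hm]
      have := hs
      exact Nat.pred_le_iff.2 this

/-- **Landau's theorem**: the number of classes bounds the order. -/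
theorem landau (k : ℕ) : ∃ N : ℕ, ∀ (G : Type u) [Group G] [Finite G],
    Nat.card (ConjClasses G) ≤ k → Nat.card G ≤ N := by
  obtain ⟨N, hN⟩ := landau_multiset k 1
  refine ⟨N, fun G _ _ hk => ?_⟩
  classical
  haveI := Fintype.ofFinite G
  haveI := Fintype.ofFinite (ConjClasses G)
  let cf : ConjClasses G → ℕ := fun C => Nat.card (Subgroup.centralizer ({C.out} : Set G))
  refine hN (Finset.univ.val.map cf) ?_ (fun n hn => ?_) ?_ _ ?_
  · rw [Multiset.card_map]; rwa [Nat.card_eq_fintype_card] at hk
  · obtain ⟨C, -, rfl⟩ := Multiset.mem_map.1 hn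
    exact Nat.card_pos
  · have hn0 : (Nat.card G : ℚ) ≠ 0 := Nat.cast_ne_zero.2 Nat.card_pos.ne'
    rw [Multiset.map_map]
    show ∑ C : ConjClasses G, (1 : ℚ) / (cf C : ℚ) = 1
    have hcar : ∀ C : ConjClasses G, C.carrier.ncard * cf C = Nat.card G := by
      intro C
      have h1 : C.carrier = MulAction.orbit (ConjAct G) C.out := by
        ext g
        rw [ConjClasses.mem_carrier_iff_mk_eq, ConjAct.mem_orbit_conjAct, ← ConjClasses.mk_eq_mk_iff_isConj]
        constructor
        · intro h
          rw [h]
          exact (Quotient.out_eq C).symm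
        · intro h
          rw [h]
          exact Quotient.out_eq C
      rw [h1, ← MulAction.index_stabilizer, ConjAct.stabilizer_eq_centralizer]
      rw [mul_comm]
      exact Subgroup.card_mul_index (Subgroup.centralizer ({C.out} : Set G))
    have hterm : ∀ C : ConjClasses G, (1 : ℚ) / (cf C : ℚ) = (C.carrier.ncard : ℚ) / Nat.card G := by
      intro C
      have h0 : (cf C : ℚ) ≠ 0 := Nat.cast_ne_zero.2 Nat.card_pos.ne'
      rw [div_eq_div_iff h0 hn0, one_mul, ← Nat.cast_mul, hcar C]
    rw [Finset.sum_congr rfl fun C _ => hterm C, ← Finset.sum_div, ← Nat.cast_sum, div_eq_one_iff_eq hn0]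
    congr 1
    rw [← Group.sum_card_conj_classes_eq_card G, finsum_eq_sum_of_fintype]
  · refine Multiset.mem_map.2 ⟨ConjClasses.mk 1, Finset.mem_univ_val _, ?_⟩
    have h1 : (ConjClasses.mk (1 : G)).out = 1 := by
      have := Quotient.out_eq (ConjClasses.mk (1 : G))
      exact isConj_one_right.1 (ConjClasses.mk_eq_mk_iff_isConj.1 this).symm
    show Nat.card (Subgroup.centralizer ({(ConjClasses.mk (1 : G)).out} : Set G)) = Nat.card G
    rw [h1]
    have ht : Subgroup.centralizer ({1} : Set G) = ⊤ := by
      rw [eq_top_iff]; intro x _; simp [Subgroup.mem_centralizer_singleton_iff]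
    rw [ht, Subgroup.card_top]

/-- The fixed points of an involutive map have the parity of the set. -/
theorem card_fixed_parity {α : Type*} [DecidableEq α] (s : Finset α) (f : α → α)
    (hs : ∀ a ∈ s, f a ∈ s) (hf : ∀ a ∈ s, f (f a) = a) :
    s.card % 2 = (s.filter fun a => f a = a).card % 2 := by
  have h0 : ∑ a ∈ s.filter (fun a => f a ≠ a), (1 : ZMod 2) = 0 := by
    refine Finset.sum_involution (fun a _ => f a) (fun a _ => by decide)
      (fun a ha _ => (Finset.mem_filter.1 ha).2) (fun a ha => ?_) (fun a ha => hf a (Finset.mem_filter.1 ha).1)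
    obtain ⟨h1, h2⟩ := Finset.mem_filter.1 ha
    refine Finset.mem_filter.2 ⟨hs a h1, fun e => h2 ?_⟩
    rw [hf a h1] at e
    exact e.symm
  rw [Finset.sum_const, nsmul_one, ZMod.natCast_eq_zero_iff_even] at h0
  have := Finset.card_filter_add_card_filter_not (s := s) (fun a => f a = a)
  simp only [ne_eq] at h0
  rw [Nat.even_iff] at h0
  omega

/-- A pair of commuting involutions fixes an involution of a normal subgroup of even order. -/
theorem exists_fixed_involution {G : Type u} [Group G] [Finite G] {x y : G} (hx : x * x = 1)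
    (hy : y * y = 1) (hxy : x * y = y * x) (N : Subgroup G) [N.Normal] (hN : Even (Nat.card N)) :
    ∃ u ∈ N, u * u = 1 ∧ u ≠ 1 ∧ u * x = x * u ∧ u * y = y * u := by
  classical
  haveI := Fintype.ofFinite G
  set S : Finset G := Finset.univ.filter fun g => g ∈ N with hS
  have hScard : S.card = Nat.card N := by
    rw [Nat.card_eq_fintype_card, hS, Fintype.card_subtype]
  have h1 := card_fixed_parity S (fun g => g⁻¹) (fun g hg => by
    simp only [hS, Finset.mem_filter, Finset.mem_univ, true_and] at hg ⊢
    exact inv_mem hg) (fun g _ => inv_inv g)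
  set T := S.filter fun g => g⁻¹ = g with hT
  have h1mem : (1 : G) ∈ T := by simp [hT, hS, one_mem]
  set I := T.erase 1 with hI
  have hIodd : I.card % 2 = 1 := by
    have := Finset.card_erase_add_one h1mem
    rw [Nat.even_iff] at hN
    rw [← hI] at this
    omega
  have hmemI : ∀ g, g ∈ I ↔ g ∈ N ∧ g * g = 1 ∧ g ≠ 1 := by
    intro g
    simp only [hI, hT, hS, Finset.mem_erase, Finset.mem_filter, Finset.mem_univ, true_and]
    rw [inv_eq_iff_mul_eq_one]
    tauto
  have hconj : ∀ z g : G, z * z = 1 → g ∈ I → z * g * z ∈ I := by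
    intro z g hz hg
    obtain ⟨ha, hb, hc⟩ := (hmemI g).1 hg
    refine (hmemI _).2 ⟨?_, ?_, fun e => hc ?_⟩
    · have hzi : z⁻¹ = z := inv_eq_of_mul_eq_one_right hz
      have := (inferInstance : N.Normal).conj_mem g ha z
      rwa [hzi] at this
    · calc z * g * z * (z * g * z) = z * g * (z * z) * g * z := by group
        _ = z * (g * g) * z := by rw [hz]; group
        _ = 1 := by rw [hb, mul_one, hz]
    · calc g = (z * z) * g * (z * z) := by rw [hz]; group
        _ = z * (z * g * z) * z := by group
        _ = 1 := by rw [e, mul_one, hz]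
  have hinv : ∀ z g : G, z * z = 1 → z * (z * g * z) * z = g := fun z g hz => by
    calc z * (z * g * z) * z = (z * z) * g * (z * z) := by group
      _ = g := by rw [hz, one_mul, mul_one]
  have h2 := card_fixed_parity I (fun g => x * g * x) (fun g hg => hconj x g hx hg)
    (fun g _ => hinv x g hx)
  set J := I.filter fun g => x * g * x = g with hJ
  have h3 := card_fixed_parity J (fun g => y * g * y) (fun g hg => by
    obtain ⟨ha, hb⟩ := Finset.mem_filter.1 hg
    refine Finset.mem_filter.2 ⟨hconj y g hy ha, ?_⟩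
    calc x * (y * g * y) * x = (x * y) * g * (y * x) := by group
      _ = (y * x) * g * (x * y) := by rw [hxy]
      _ = y * (x * g * x) * y := by group
      _ = y * g * y := by rw [hb]) (fun g _ => hinv y g hy)
  obtain ⟨u, hu⟩ := Finset.card_pos.1 (show 0 < (J.filter fun g => y * g * y = g).card by omega)
  obtain ⟨huJ, huy⟩ := Finset.mem_filter.1 hu
  obtain ⟨huI, hux⟩ := Finset.mem_filter.1 huJ
  obtain ⟨ha, hb, hc⟩ := (hmemI u).1 huI
  refine ⟨u, ha, hb, hc, ?_, ?_⟩
  · calc u * x = (x * u * x) * x := by rw [hux]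
      _ = x * u * (x * x) := by group
      _ = x * u := by rw [hx, mul_one]
  · calc u * y = (y * u * y) * y := by rw [huy]
      _ = y * u * (y * y) := by group
      _ = y * u := by rw [hy, mul_one]

/-- A map with fibres of size at most `k`. -/
theorem card_le_mul_of_fibres {α β : Type*} [Finite α] [Finite β] (f : α → β) (k : ℕ)
    (h : ∀ a, Nat.card {a' : α // f a' = f a} ≤ k) : Nat.card α ≤ k * Nat.card β := by
  classical
  haveI := Fintype.ofFinite α
  haveI := Fintype.ofFinite β
  rw [Nat.card_eq_fintype_card, Nat.card_eq_fintype_card]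
  refine le_trans (Finset.card_le_mul_card_image (f := f) (Finset.univ : Finset α) k fun b hb => ?_)
    (Nat.mul_le_mul_left k (Finset.card_le_univ _))
  obtain ⟨a, -, rfl⟩ := Finset.mem_image.1 hb
  have := h a
  rw [Nat.card_eq_fintype_card, Fintype.card_subtype] at this
  exact this

/-- A four group acting on a group of odd order. -/
theorem card_odd_le {G : Type u} [Group G] [Finite G] (K : Subgroup G) [K.Normal]
    (hK : Odd (Nat.card K)) {a b : G} (ha : a * a = 1) (hb : b * b = 1) (hab : a * b = b * a)
    {c : ℕ} (hca : Nat.card (Subgroup.centralizer ({a} : Set G)) ≤ c)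
    (hcb : Nat.card (Subgroup.centralizer ({b} : Set G)) ≤ c)
    (hcab : Nat.card (Subgroup.centralizer ({a * b} : Set G)) ≤ c) : Nat.card K ≤ c * (c * c) := by
  classical
  obtain ⟨j, hj⟩ := hK
  set m := j + 1 with hm
  have hai : a⁻¹ = a := inv_eq_of_mul_eq_one_right ha
  have hbi : b⁻¹ = b := inv_eq_of_mul_eq_one_right hb
  have hpow : ∀ k ∈ K, k ^ m * k ^ m = k := by
    intro k hk
    have h1 : k ^ Nat.card K = 1 := by
      have := congrArg Subtype.val (pow_card_eq_one' (x := (⟨k, hk⟩ : K)))
      rwa [Subgroup.coe_pow, Subgroup.coe_one] at this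
    rw [← pow_add, show m + m = Nat.card K + 1 by omega, pow_succ, h1, one_mul]
  have huniq : ∀ w ∈ K, (w * w) ^ m = w := by
    intro w hw
    have := hpow w hw
    rw [← pow_two, ← pow_mul, mul_comm, pow_mul, pow_two]
    exact this
  have hconjK : ∀ z k : G, z⁻¹ = z → k ∈ K → z * k * z ∈ K := fun z k hz hk => by
    have := (inferInstance : K.Normal).conj_mem k hk z
    rwa [hz] at this
  have hcpow : ∀ z k : G, z * z = 1 → ∀ n : ℕ, z * k ^ n * z = (z * k * z) ^ n := by
    intro z k hz n
    induction n with
    | zero => simp [hz]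
    | succ n ih =>
      rw [pow_succ, pow_succ, ← ih]
      calc z * (k ^ n * k) * z = z * k ^ n * (z * z) * k * z := by rw [hz]; group
        _ = z * k ^ n * z * (z * k * z) := by group
  have hsplit : ∀ w ∈ K, a * w * a = w⁻¹ → ∃ zd : Subgroup.centralizer ({b} : Set G) ×
      Subgroup.centralizer ({a * b} : Set G), (zd.1 : G) * zd.2 * zd.1 = w := by
    intro w hw haw
    set r := w ^ m with hr
    have hrK : r ∈ K := pow_mem hw m
    have hrr : r * r = w := hpow w hw
    set w' := b * w * b with hw'
    have hw'K : w' ∈ K := hconjK b w hbi hw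
    set Q := r⁻¹ * w' * r⁻¹ with hQ
    have hQK : Q ∈ K := mul_mem (mul_mem (inv_mem hrK) hw'K) (inv_mem hrK)
    set g := r * Q ^ m * r with hg
    have hgK : g ∈ K := mul_mem (mul_mem hrK (pow_mem hQK m)) hrK
    have hgeq : g * w⁻¹ * g = w' := by
      rw [hg, ← hrr]
      calc r * Q ^ m * r * (r * r)⁻¹ * (r * Q ^ m * r) = r * (Q ^ m * Q ^ m) * r := by group
        _ = r * Q * r := by rw [hpow Q hQK]
        _ = w' := by rw [hQ]; group
    have hu : ∀ h ∈ K, h * w⁻¹ * h = w' → h = g := by
      intro h hh he
      have hsq : (r⁻¹ * h * r⁻¹) * (r⁻¹ * h * r⁻¹) = Q := by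
        rw [hQ, ← he, ← hrr]; group
      have := huniq _ (mul_mem (mul_mem (inv_mem hrK) hh) (inv_mem hrK))
      rw [hsq] at this
      rw [hg, this]; group
    have hbw' : b * w' * b = w := by
      rw [hw']
      calc b * (b * w * b) * b = (b * b) * w * (b * b) := by group
        _ = w := by rw [hb, one_mul, mul_one]
    have hgb : b * g * b = g := by
      refine hu _ (hconjK b g hbi hgK) ?_
      have h1 : (b * g * b) * w'⁻¹ * (b * g * b) = w := by
        have h2 : w'⁻¹ = b⁻¹ * w⁻¹ * b⁻¹ := by rw [hw']; group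
        rw [h2, hbi]
        calc b * g * b * (b * w⁻¹ * b) * (b * g * b)
            = b * g * (b * b) * w⁻¹ * (b * b) * g * b := by group
          _ = b * (g * w⁻¹ * g) * b := by rw [hb]; group
          _ = w := by rw [hgeq, hbw']
      rw [← h1]; group
    have haw' : a * w' * a = w'⁻¹ := by
      rw [hw']
      calc a * (b * w * b) * a = (a * b) * w * (b * a) := by group
        _ = (b * a) * w * (a * b) := by rw [hab]
        _ = b * (a * w * a) * b := by group
        _ = b * w⁻¹ * b := by rw [haw]
        _ = b⁻¹ * w⁻¹ * b⁻¹ := by rw [hbi]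
        _ = _ := by group
    have hga : a * g * a = g⁻¹ := by
      have h1 : (a * g * a) * w * (a * g * a) = w'⁻¹ := by
        rw [← haw', ← hgeq]
        have h2 : w = a * w⁻¹ * a := by
          calc w = (a * a) * w * (a * a) := by rw [ha, one_mul, mul_one]
            _ = a * (a * w * a) * a := by group
            _ = a * w⁻¹ * a := by rw [haw]
        conv_lhs => rw [h2]
        calc a * g * a * (a * w⁻¹ * a) * (a * g * a)
            = a * g * (a * a) * w⁻¹ * (a * a) * g * a := by group
          _ = a * (g * w⁻¹ * g) * a := by rw [ha]; group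
      have h3 : (a * g * a)⁻¹ = g := by
        refine hu _ (inv_mem (hconjK a g hai hgK)) ?_
        have := congrArg (fun t => t⁻¹) h1
        simp only [inv_inv] at this
        rw [← this]; group
      exact inv_eq_iff_eq_inv.1 h3
    set z := g ^ m with hz
    have hzz : z * z = g := hpow g hgK
    have hzb : b * z * b = z := by rw [hz, hcpow b g hb, hgb]
    have hza : a * z * a = z⁻¹ := by rw [hz, hcpow a g ha, hga, inv_pow]
    set d := z⁻¹ * w * z⁻¹ with hd
    have hzbi : b * z⁻¹ * b = z⁻¹ := by
      have := congrArg (fun t => t⁻¹) hzb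
      simp only [mul_inv_rev, hbi] at this
      rwa [← mul_assoc] at this
    have hzai : a * z⁻¹ * a = z := by
      have := congrArg (fun t => t⁻¹) hza
      simp only [mul_inv_rev, hai, inv_inv] at this
      rwa [← mul_assoc] at this
    have hdb : b * d * b = z * w⁻¹ * z := by
      calc b * d * b = (b * z⁻¹ * b) * w' * (b * z⁻¹ * b) := by
            rw [hd, hw']
            calc b * (z⁻¹ * w * z⁻¹) * b
                = b * z⁻¹ * 1 * w * 1 * z⁻¹ * b := by group
              _ = b * z⁻¹ * (b * b) * w * (b * b) * z⁻¹ * b := by rw [hb]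
              _ = _ := by group
        _ = z⁻¹ * (g * w⁻¹ * g) * z⁻¹ := by rw [hzbi, hgeq]
        _ = z * w⁻¹ * z := by rw [← hzz]; group
    have hda : a * (z * w⁻¹ * z) * a = d := by
      have h2 : a * w⁻¹ * a = w := by
        have := congrArg (fun t => t⁻¹) haw
        simp only [mul_inv_rev, hai, inv_inv] at this
        rwa [← mul_assoc] at this
      calc a * (z * w⁻¹ * z) * a = a * z * 1 * w⁻¹ * 1 * z * a := by group
        _ = a * z * (a * a) * w⁻¹ * (a * a) * z * a := by rw [ha]
        _ = (a * z * a) * (a * w⁻¹ * a) * (a * z * a) := by group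
        _ = d := by rw [hza, h2]
    refine ⟨(⟨z, Subgroup.mem_centralizer_singleton_iff.2 ?_⟩,
      ⟨d, Subgroup.mem_centralizer_singleton_iff.2 ?_⟩), ?_⟩
    · calc z * b = (b * z * b) * b := by rw [hzb]
        _ = b * z * (b * b) := by group
        _ = b * z := by rw [hb, mul_one]
    · have h5 : (a * b) * d * (b * a) = d := by
        calc (a * b) * d * (b * a) = a * (b * d * b) * a := by group
          _ = d := by rw [hdb, hda]
      calc d * (a * b) = (a * b) * d * (b * a) * (a * b) := by rw [h5]
        _ = (a * b) * d * b * (a * a) * b := by group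
        _ = (a * b) * d * (b * b) := by rw [ha]; group
        _ = a * b * d := by rw [hb, mul_one]
    · show z * d * z = w
      rw [hd]; group
  let W := {w : G // w ∈ K ∧ a * w * a = w⁻¹}
  have hW : Nat.card W ≤ c * c := by
    refine le_trans (Nat.card_le_card_of_injective (fun w : W => (hsplit w.1 w.2.1 w.2.2).choose)
      fun w w' he => ?_) ?_
    · refine Subtype.ext ?_
      rw [← (hsplit w.1 w.2.1 w.2.2).choose_spec, ← (hsplit w'.1 w'.2.1 w'.2.2).choose_spec]
      simp only at he
      rw [he]
    · rw [Nat.card_prod]; exact Nat.mul_le_mul hcb hcab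
  let f : K → W := fun k => ⟨(k : G)⁻¹ * (a * k * a),
    mul_mem (inv_mem k.2) (hconjK a k hai k.2), by
      calc a * ((k : G)⁻¹ * (a * k * a)) * a = a * (k : G)⁻¹ * a * k * (a * a) := by group
        _ = a⁻¹ * (k : G)⁻¹ * a⁻¹ * k := by rw [ha, hai, mul_one]
        _ = ((k : G)⁻¹ * (a * k * a))⁻¹ := by group⟩
  refine le_trans (card_le_mul_of_fibres f c fun k => ?_) (Nat.mul_le_mul_left c hW)
  refine le_trans (Nat.card_le_card_of_injective
    (fun k' : {k' : K // f k' = f k} => (⟨(k'.1 : G) * (k : G)⁻¹, ?_⟩ :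
      Subgroup.centralizer ({a} : Set G))) fun p q he => ?_) hca
  · rw [Subgroup.mem_centralizer_singleton_iff]
    have h := congrArg Subtype.val k'.2
    simp only [f] at h
    set s : G := ↑k'.1 with hs
    set t : G := (k : G) with ht
    have h' : s⁻¹ * a * s = t⁻¹ * a * t := by
      have := congrArg (fun v => v * a) h
      simp only [mul_assoc, ha, mul_one] at this
      simpa [mul_assoc] using this
    calc s * t⁻¹ * a = s * (t⁻¹ * a * t) * t⁻¹ := by group
      _ = s * (s⁻¹ * a * s) * t⁻¹ := by rw [h']
      _ = a * (s * t⁻¹) := by group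
  · have := congrArg Subtype.val he
    simp only [mul_left_inj] at this
    exact Subtype.ext (Subtype.ext this)

/-- An involution with small centralizer makes some non-trivial centralizer large. -/
theorem exists_large_centralizer {G : Type u} [Group G] [Finite G] {u : G} (hu : u * u = 1)
    (hu1 : u ≠ 1) {c : ℕ} (hc : Nat.card (Subgroup.centralizer ({u} : Set G)) ≤ c) :
    ∃ y : G, y ≠ 1 ∧ (Subgroup.centralizer ({y} : Set G)).index ≤ 2 * (c * c) + c := by
  classical
  haveI := Fintype.ofFinite G
  by_contra hno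
  push Not at hno
  set C := Subgroup.centralizer ({u} : Set G) with hC
  set B := 2 * (c * c) + c with hB
  set K : Finset G := Finset.univ.filter fun g => IsConj u g with hK
  have hKi : ∀ s ∈ K, s * s = 1 := by
    intro s hs
    obtain ⟨v, rfl⟩ := isConj_iff.1 (Finset.mem_filter.1 hs).2
    calc v * u * v⁻¹ * (v * u * v⁻¹) = v * (u * u) * v⁻¹ := by group
      _ = 1 := by rw [hu]; group
  have hKcard : K.card * Nat.card C = Nat.card G := by
    have h1 : (K : Set G) = MulAction.orbit (ConjAct G) u := by
      ext g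
      rw [ConjAct.mem_orbit_conjAct, isConj_comm, hK]
      simp
    rw [← Set.ncard_coe_finset, h1, ← MulAction.index_stabilizer, ConjAct.stabilizer_eq_centralizer,
      mul_comm]
    exact Subgroup.card_mul_index _
  have hK2 : 2 ≤ K.card := by
    by_contra hlt
    have hpos : u ∈ K := Finset.mem_filter.2 ⟨Finset.mem_univ _, IsConj.refl u⟩
    have := Finset.card_pos.2 ⟨u, hpos⟩
    have h1 : K.card = 1 := by omega
    rw [h1, one_mul] at hKcard
    have := hno u hu1
    have h2 : (Subgroup.centralizer ({u} : Set G)).index ≤ Nat.card G :=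
      Nat.le_of_dvd Nat.card_pos (Subgroup.index_dvd_card _)
    have hcc := hc
    rw [← hC] at this h2
    omega
  -- fibres of the product map
  have hfib : ∀ y : G, y ≠ 1 → ((K ×ˢ K).filter fun q : G × G => q.1 * q.2 = y).card ≤
      Nat.card (Subgroup.centralizer ({y} : Set G)) := by
    intro y hy
    by_cases hne : ((K ×ˢ K).filter fun q : G × G => q.1 * q.2 = y).Nonempty
    swap
    · rw [Finset.not_nonempty_iff_eq_empty.1 hne]; simp
    obtain ⟨q₀, hq₀⟩ := hne
    rw [Nat.card_eq_fintype_card, ← Finset.card_univ]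
    have key : ∀ q ∈ (K ×ˢ K).filter (fun q : G × G => q.1 * q.2 = y), q.1 * y * q.1 = y⁻¹ := by
      intro q hq
      obtain ⟨hq1, hq2⟩ := Finset.mem_filter.1 hq
      rw [Finset.mem_product] at hq1
      have e1 : q.1⁻¹ = q.1 := inv_eq_of_mul_eq_one_right (hKi _ hq1.1)
      have e2 : q.2⁻¹ = q.2 := inv_eq_of_mul_eq_one_right (hKi _ hq1.2)
      rw [← hq2, mul_inv_rev, e1, e2]
      calc q.1 * (q.1 * q.2) * q.1 = (q.1 * q.1) * q.2 * q.1 := by group
        _ = q.2 * q.1 := by rw [hKi _ hq1.1, one_mul]
    have hmem : ∀ q ∈ (K ×ˢ K).filter (fun q : G × G => q.1 * q.2 = y),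
        q.1 * q₀.1 ∈ Subgroup.centralizer ({y} : Set G) := by
      intro q hq
      have ea := key q hq
      have eb := key q₀ hq₀
      have hq1 := hKi _ (Finset.mem_product.1 (Finset.mem_filter.1 hq).1).1
      have hq01 := hKi _ (Finset.mem_product.1 (Finset.mem_filter.1 hq₀).1).1
      have eb' : q₀.1 * y = y⁻¹ * q₀.1 := by
        rw [← eb]
        calc q₀.1 * y = q₀.1 * y * (q₀.1 * q₀.1) := by rw [hq01, mul_one]
          _ = _ := by group
      have ea' : q.1 * y⁻¹ = y * q.1 := by
        calc q.1 * y⁻¹ = q.1 * (q.1 * y * q.1) := by rw [ea]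
          _ = (q.1 * q.1) * y * q.1 := by group
          _ = y * q.1 := by rw [hq1, one_mul]
      rw [Subgroup.mem_centralizer_singleton_iff]
      calc q.1 * q₀.1 * y = q.1 * (y⁻¹ * q₀.1) := by rw [← eb']; group
        _ = (q.1 * y⁻¹) * q₀.1 := by group
        _ = y * (q.1 * q₀.1) := by rw [ea']; group
    refine Finset.card_le_card_of_injOn
      (fun q => if h : q.1 * q₀.1 ∈ Subgroup.centralizer ({y} : Set G) then ⟨_, h⟩ else 1)
      (fun q _ => Finset.mem_univ _) ?_
    intro q hq q' hq' he
    simp only [Finset.mem_coe] at hq hq'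
    simp only [dif_pos (hmem q hq), dif_pos (hmem q' hq'), Subtype.mk.injEq, mul_left_inj] at he
    refine Prod.ext he ?_
    have e1 := (Finset.mem_filter.1 hq).2
    have e2 := (Finset.mem_filter.1 hq').2
    rw [← e2, he] at e1
    exact mul_left_cancel e1
  have hfib1 : ((K ×ˢ K).filter fun q : G × G => q.1 * q.2 = 1).card ≤ K.card := by
    refine Finset.card_le_card_of_injOn (fun q => q.1) (fun q hq => ?_) ?_
    · simp only [Finset.mem_coe] at hq ⊢
      exact (Finset.mem_product.1 (Finset.mem_filter.1 hq).1).1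
    · intro q hq q' hq' he
      simp only [Finset.mem_coe] at hq hq'
      simp only at he
      refine Prod.ext he ?_
      have e1 := (Finset.mem_filter.1 hq).2
      have e2 := (Finset.mem_filter.1 hq').2
      rw [← e2, he] at e1
      exact mul_left_cancel e1
  have hy : ∀ y : G, y ≠ 1 → B * Nat.card (Subgroup.centralizer ({y} : Set G)) ≤ Nat.card G := by
    intro y hy
    rw [← Subgroup.card_mul_index (Subgroup.centralizer ({y} : Set G)), mul_comm]
    exact Nat.mul_le_mul_left _ (hno y hy).le
  have hsum : (K ×ˢ K).card = ∑ y : G, ((K ×ˢ K).filter fun q : G × G => q.1 * q.2 = y).card :=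
    Finset.card_eq_sum_card_fiberwise fun q _ => Finset.mem_univ _
  rw [Finset.card_product, ← Finset.add_sum_erase _ _ (Finset.mem_univ (1 : G))] at hsum
  have hrest : B * ∑ y ∈ Finset.univ.erase (1 : G),
      ((K ×ˢ K).filter fun q : G × G => q.1 * q.2 = y).card ≤ Nat.card G * Nat.card G := by
    rw [Finset.mul_sum]
    refine le_trans (Finset.sum_le_sum fun y hy' => le_trans
      (Nat.mul_le_mul_left B (hfib y (Finset.ne_of_mem_erase hy'))) (hy y (Finset.ne_of_mem_erase hy'))) ?_
    rw [Finset.sum_const, smul_eq_mul]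
    refine Nat.mul_le_mul_right _ ?_
    rw [Nat.card_eq_fintype_card]
    exact (Finset.card_erase_le).trans (le_of_eq Finset.card_univ)
  have h1 : B * (K.card * K.card) ≤ B * K.card + Nat.card G * Nat.card G := by
    rw [hsum, mul_add]
    exact Nat.add_le_add (Nat.mul_le_mul_left B hfib1) hrest
  rw [← hKcard] at h1
  have h2 : K.card * K.card + 0 ≤ 2 * (K.card * K.card - K.card) := by
    have : 2 * K.card ≤ K.card * K.card := Nat.mul_le_mul_right _ hK2
    omega
  have hcpos : 0 < Nat.card C := Nat.card_pos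
  have h3 : K.card * Nat.card C * (K.card * Nat.card C) ≤ c * c * (K.card * K.card) := by
    calc K.card * Nat.card C * (K.card * Nat.card C)
        = Nat.card C * Nat.card C * (K.card * K.card) := by ring
      _ ≤ _ := Nat.mul_le_mul_right _ (Nat.mul_le_mul hc hc)
  have h4 : K.card ≤ K.card * K.card := Nat.le_mul_self _
  nlinarith [Nat.sub_add_cancel h4]

/-- Centralizers in a quotient. -/
theorem centralizer_quotient_le {G : Type u} [Group G] [Finite G] (K : Subgroup G) [K.Normal]
    (x : G) : Nat.card (Subgroup.centralizer ({(x : G ⧸ K)} : Set (G ⧸ K))) ≤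
      Nat.card (Subgroup.centralizer ({x} : Set G)) := by
  set X := (Subgroup.centralizer ({(x : G ⧸ K)} : Set (G ⧸ K))).comap (QuotientGroup.mk' K) with hX
  have h1 : Nat.card X = Nat.card K * Nat.card (Subgroup.centralizer ({(x : G ⧸ K)} : Set (G ⧸ K))) := by
    have h := Subgroup.index_comap_of_surjective
      (Subgroup.centralizer ({(x : G ⧸ K)} : Set (G ⧸ K))) (QuotientGroup.mk'_surjective K)
    rw [← hX] at h
    have e1 := Subgroup.card_mul_index X
    have e2 := Subgroup.card_mul_index (Subgroup.centralizer ({(x : G ⧸ K)} : Set (G ⧸ K)))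
    have e3 := Subgroup.card_mul_index K
    rw [Subgroup.index_eq_card] at e3
    rw [h] at e1
    rw [← e2, ← mul_assoc] at e3
    have hpos : 0 < (Subgroup.centralizer ({(x : G ⧸ K)} : Set (G ⧸ K))).index :=
      Nat.pos_of_ne_zero Subgroup.index_ne_zero_of_finite
    exact Nat.eq_of_mul_eq_mul_right hpos (e1.trans e3.symm)
  let f : X → K := fun v => ⟨(v : G) * x * (v : G)⁻¹ * x⁻¹, by
    have hv : (v : G) ∈ X := v.2
    simp only [hX, Subgroup.mem_comap, Subgroup.mem_centralizer_singleton_iff] at hv
    simp only [QuotientGroup.mk'_apply] at hv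
    rw [← QuotientGroup.eq_one_iff, QuotientGroup.mk_mul, QuotientGroup.mk_mul, QuotientGroup.mk_mul,
      QuotientGroup.mk_inv, QuotientGroup.mk_inv, hv]
    group⟩
  have h2 := card_le_mul_of_fibres f (Nat.card (Subgroup.centralizer ({x} : Set G))) fun v => by
    refine Nat.card_le_card_of_injective
      (fun v' : {v' : X // f v' = f v} => (⟨(v : G)⁻¹ * (v'.1 : G), ?_⟩ :
        Subgroup.centralizer ({x} : Set G))) fun p q he => ?_
    · rw [Subgroup.mem_centralizer_singleton_iff]
      have h := congrArg Subtype.val v'.2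
      simp only [f, mul_left_inj] at h
      set s : G := ↑v'.1
      set t : G := (v : G)
      calc t⁻¹ * s * x = t⁻¹ * (s * x * s⁻¹) * s := by group
        _ = t⁻¹ * (t * x * t⁻¹) * s := by rw [h]
        _ = x * (t⁻¹ * s) := by group
    · have := congrArg Subtype.val he
      simp only [mul_right_inj] at this
      exact Subtype.ext (Subtype.ext this)
  rw [h1, mul_comm (Nat.card (Subgroup.centralizer ({x} : Set G)))] at h2
  exact Nat.le_of_mul_le_mul_left h2 Nat.card_pos

end CfsgLib.Deficiency
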