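import Cfsg.Agent.Lib.Deficiency.Counting
import Cfsg.Agent.Lib.Basic

/-!
# Groups with a four group of involutions with small centralizers are bounded
-/

namespace CfsgLib.Deficiency

open Cfsg

set_option linter.unusedVariables false
set_option linter.unusedSectionVars false
set_option linter.style.haveILetI false

universe u

/-- Minimality among normal subgroups. -/
def MinNormal {G : Type u} [Group G] (N : Subgroup G) : Prop :=
  N.Normal ∧ N ≠ ⊥ ∧ ∀ M : Subgroup G, M.Normal → M ≤ N → M = ⊥ ∨ M = N

/-- A non-abelian minimal normal subgroup with an involution with small centralizer. -/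
theorem card_minNormal_le {G : Type u} [Group G] [Finite G] (N : Subgroup G) [N.Normal]
    (hmin : MinNormal N) (hcen : ¬ ∀ a b : N, a * b = b * a) {u : N} (hu : u * u = 1) (hu1 : u ≠ 1)
    {c a : ℕ} (hc : Nat.card (Subgroup.centralizer ({u} : Set N)) ≤ c)
    (ha : (Nat.card N).factorization 2 ≤ a) :
    Nat.card N ≤ (Nat.factorial (2 * (c * c) + c)) ^ a := by
  classical
  set B := 2 * (c * c) + c with hB
  have hZ : Subgroup.center N = ⊥ := by
    rcases hmin.2.2 ((Subgroup.center N).map N.subtype) inferInstance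
      (Subgroup.map_subtype_le _) with h | h
    · exact (Subgroup.map_eq_bot_iff_of_injective _ N.subtype_injective).1 h
    · exfalso
      refine hcen fun s t => ?_
      have hs : (s : G) ∈ (Subgroup.center N).map N.subtype := by rw [h]; exact s.2
      obtain ⟨s', hs', he⟩ := hs
      have hss : s' = s := Subtype.ext he
      rw [hss] at hs'
      exact (Subgroup.mem_center_iff.1 hs' t).symm
  obtain ⟨y, hy1, hy⟩ := exists_large_centralizer hu hu1 hc
  set L₀ := (Subgroup.centralizer ({y} : Set N)).normalCore with hL₀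
  have hCy : Subgroup.centralizer ({y} : Set N) ≠ ⊤ := by
    intro h
    refine hy1 ?_
    have : y ∈ Subgroup.center N := Subgroup.mem_center_iff.2 fun g =>
      Subgroup.mem_centralizer_singleton_iff.1 (h ▸ Subgroup.mem_top g)
    rwa [hZ, Subgroup.mem_bot] at this
  have hL₀top : L₀ ≠ ⊤ := fun h => hCy (top_le_iff.1 (h ▸ Subgroup.normalCore_le _))
  have hL₀B : L₀.index ≤ B.factorial := by
    rw [hL₀, Subgroup.normalCore_eq_ker, Subgroup.index_ker]
    refine le_trans (Nat.card_le_card_of_injective _ Subtype.val_injective) ?_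
    rw [Nat.card_perm, ← Subgroup.index_eq_card]
    exact Nat.factorial_le hy
  obtain ⟨L, hL₀L, hLmax⟩ := Finite.exists_le_maximal
    (p := fun L : Subgroup N => L.Normal ∧ L ≠ ⊤) (⟨inferInstance, hL₀top⟩ : L₀.Normal ∧ L₀ ≠ ⊤)
  obtain ⟨hLn, hLtop⟩ := hLmax.1
  haveI := hLn
  have hLmax' : ∀ X : Subgroup N, X.Normal → L ≤ X → X = L ∨ X = ⊤ := fun X hX hLX => by
    by_cases hXt : X = ⊤
    · exact Or.inr hXt
    · exact Or.inl (le_antisymm (hLmax.2 ⟨hX, hXt⟩ hLX) hLX)
  set q := L.index with hq
  have hqB : q ≤ B.factorial := le_trans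
    (Nat.le_of_dvd (Nat.pos_of_ne_zero Subgroup.index_ne_zero_of_finite) (Subgroup.index_dvd_of_le hL₀L)) hL₀B
  -- the intersection of the conjugates
  let conjL : G → Subgroup N := fun g => L.comap (MulAut.conjNormal (H := N) g).toMonoidHom
  set D : Subgroup N := ⨅ g : G, conjL g with hD
  have hDbot : D = ⊥ := by
    have hn : (D.map N.subtype).Normal := by
      refine ⟨fun n hn g => ?_⟩
      obtain ⟨n', hn', rfl⟩ := hn
      refine ⟨MulAut.conjNormal (H := N) g n', ?_, by simp⟩
      simp only [hD, SetLike.mem_coe, Subgroup.mem_iInf] at hn' ⊢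
      intro g'
      have := hn' (g' * g)
      simpa [conjL, map_mul] using this
    rcases hmin.2.2 _ hn (Subgroup.map_subtype_le _) with h | h
    · exact (Subgroup.map_eq_bot_iff_of_injective _ N.subtype_injective).1 h
    · exfalso
      refine hLtop (eq_top_iff.2 fun x _ => ?_)
      have hx : (x : G) ∈ D.map N.subtype := by rw [h]; exact x.2
      obtain ⟨x', hx', he⟩ := hx
      have hxx : x' = x := Subtype.ext he
      rw [hxx] at hx'
      simp only [hD, SetLike.mem_coe, Subgroup.mem_iInf] at hx'
      simpa [conjL] using hx' 1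
  have hindex : ∀ g, (conjL g).index = q := fun g =>
    Subgroup.index_comap_of_surjective L (MulAut.conjNormal (H := N) g).surjective
  have heven : 2 ∣ q := by
    by_contra hodd
    refine hu1 ?_
    have hmem : u ∈ D := by
      rw [hD, Subgroup.mem_iInf]
      intro g
      set v := MulAut.conjNormal (H := N) g u with hv
      show v ∈ L
      have h1 : (QuotientGroup.mk' L v) ^ Nat.card (N ⧸ L) = 1 := pow_card_eq_one'
      have h2 : (QuotientGroup.mk' L v) ^ 2 = 1 := by
        rw [← map_pow, hv, ← map_pow, pow_two, hu, map_one, map_one]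
      obtain ⟨j, hj⟩ : ∃ j, q = 2 * j + 1 := by
        have : q % 2 = 1 := by omega
        exact ⟨q / 2, by omega⟩
      rw [← Subgroup.index_eq_card, ← hq, hj, pow_succ, pow_mul, h2, one_pow, one_mul] at h1
      exact (QuotientGroup.eq_one_iff v).1 h1
    rwa [hDbot, Subgroup.mem_bot] at hmem
  let P : Subgroup N → Prop := fun X => X.Normal ∧ ∃ k : ℕ, X.index = q ^ k
  obtain ⟨X, hXmin⟩ := exists_minimal_of_wellFoundedLT P ⟨⊤, inferInstance, 0, by simp⟩
  obtain ⟨hXn, k, hk⟩ := hXmin.1
  haveI := hXn
  have hXbot : X = ⊥ := by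
    by_contra hne
    have hex : ∃ g, ¬ X ≤ conjL g := by
      by_contra hc'
      push Not at hc'
      exact hne (le_bot_iff.1 (hDbot ▸ le_iInf hc'))
    obtain ⟨g, hg⟩ := hex
    have hsup : X ⊔ conjL g = ⊤ := by
      set φ := MulAut.conjNormal (H := N) g with hφ
      have hXn' : ((X ⊔ conjL g).map φ.toMonoidHom).Normal :=
        Subgroup.Normal.map inferInstance _ φ.surjective
      have hle : L ≤ (X ⊔ conjL g).map φ.toMonoidHom := by
        intro l hl
        refine ⟨φ.symm l, Subgroup.mem_sup_right ?_, by simp⟩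
        show φ (φ.symm l) ∈ L
        simpa using hl
      rcases hLmax' _ hXn' hle with h | h
      · exfalso
        refine hg fun x hx => ?_
        show φ x ∈ L
        rw [← h]
        exact ⟨x, Subgroup.mem_sup_left hx, rfl⟩
      · refine eq_top_iff.2 fun x _ => ?_
        obtain ⟨x', hx', he⟩ := (h ▸ Subgroup.mem_top (φ x) :
          φ x ∈ (X ⊔ conjL g).map φ.toMonoidHom)
        rwa [φ.injective he] at hx'
    have hlt : X ⊓ conjL g < X := lt_of_le_of_ne inf_le_left fun e => hg (e ▸ inf_le_right)
    refine absurd (hXmin.2 ⟨inferInstance, k + 1, ?_⟩ hlt.le) (not_le_of_gt hlt)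
    rw [← Subgroup.relIndex_mul_index (inf_le_left : X ⊓ conjL g ≤ X), hk,
      Subgroup.inf_relIndex_left, ← Subgroup.relIndex_sup_right, hsup, Subgroup.relIndex_top_right,
      hindex, pow_succ, mul_comm]
  rw [hXbot, Subgroup.index_bot] at hk
  rw [hk]
  have hk2 : k ≤ a := by
    refine le_trans ?_ ha
    refine (Nat.prime_two.pow_dvd_iff_le_factorization Nat.card_pos.ne').1 ?_
    rw [hk]
    exact pow_dvd_pow_of_dvd heven k
  exact le_trans (Nat.pow_le_pow_left hqB k) (Nat.pow_le_pow_right (Nat.factorial_pos _) hk2)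

/-- Data: a four group with small centralizers. -/
def Four (c : ℕ) {G : Type u} [Group G] (x y : G) : Prop :=
  x * x = 1 ∧ y * y = 1 ∧ x * y = y * x ∧ x ≠ 1 ∧ y ≠ 1 ∧ x ≠ y ∧
    Nat.card (Subgroup.centralizer ({x} : Set G)) ≤ c ∧
    Nat.card (Subgroup.centralizer ({y} : Set G)) ≤ c ∧
    Nat.card (Subgroup.centralizer ({x * y} : Set G)) ≤ c

theorem Four.quotient {G : Type u} [Group G] [Finite G] {c : ℕ} {x y : G} (h : Four c x y)
    (K : Subgroup G) [K.Normal] (hx : x ∉ K) (hy : y ∉ K) (hxy : x * y ∉ K) :
    Four c (x : G ⧸ K) (y : G ⧸ K) := by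
  obtain ⟨h1, h2, h3, h4, h5, h6, h7, h8, h9⟩ := h
  refine ⟨?_, ?_, ?_, ?_, ?_, ?_, (centralizer_quotient_le K x).trans h7,
    (centralizer_quotient_le K y).trans h8, ?_⟩
  · rw [← QuotientGroup.mk_mul, h1, QuotientGroup.mk_one]
  · rw [← QuotientGroup.mk_mul, h2, QuotientGroup.mk_one]
  · rw [← QuotientGroup.mk_mul, h3, QuotientGroup.mk_mul]
  · rwa [ne_eq, QuotientGroup.eq_one_iff]
  · rwa [ne_eq, QuotientGroup.eq_one_iff]
  · intro e
    rw [QuotientGroup.eq, inv_eq_of_mul_eq_one_right h1] at e
    exact hxy e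
  · rw [← QuotientGroup.mk_mul]
    exact (centralizer_quotient_le K (x * y)).trans h9

/-- **The group-theoretic bound.** -/
theorem bound_four : ∀ a c : ℕ, ∃ N : ℕ, ∀ (G : Type u) [Group G] [Finite G],
    (Nat.card G).factorization 2 ≤ a → ∀ x y : G, Four c x y → Nat.card G ≤ N := by
  intro a
  induction a with
  | zero =>
    intro c
    refine ⟨0, fun G _ _ hG x y h => ?_⟩
    exfalso
    obtain ⟨h1, -, -, h4, -⟩ := h
    have hord : orderOf x = 2 := orderOf_eq_prime (by rw [pow_two]; exact h1) h4
    have hdvd : 2 ∣ Nat.card G := hord ▸ orderOf_dvd_natCard x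
    have := Nat.prime_two.factorization_pos_of_dvd Nat.card_pos.ne' hdvd
    omega
  | succ a ih =>
    intro c
    obtain ⟨N₀, hN₀⟩ := ih c
    set C' := max c (2 * N₀) with hC'
    set B := max (2 ^ (a + 1)) ((Nat.factorial (2 * (C' * C') + C')) ^ (a + 1)) with hB
    refine ⟨(c * (c * c)) * (C' * B ^ B), fun G _ _ hG x y h => ?_⟩
    classical
    obtain ⟨h1, h2, h3, h4, h5, h6, h7, h8, h9⟩ := h
    set K := pPrimeCore 2 G with hKdef
    haveI hKn : K.Normal := inferInstance
    have hKodd : Odd (Nat.card K) := Nat.coprime_two_right.1 (CfsgLib.card_pPrimeCore_coprime 2)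
    have hK : Nat.card K ≤ c * (c * c) := card_odd_le K hKodd h1 h2 h3 h7 h8 h9
    have hnotK : ∀ v : G, v * v = 1 → v ≠ 1 → v ∉ K := by
      intro v hv hv1 hvK
      have hord : orderOf v = 2 := orderOf_eq_prime (by rw [pow_two]; exact hv) hv1
      have h := orderOf_dvd_natCard (⟨v, hvK⟩ : K)
      rw [Subgroup.orderOf_mk, hord] at h
      obtain ⟨j, hj⟩ := hKodd
      omega
    have hxyy : x * y * (x * y) = 1 := by
      calc x * y * (x * y) = x * (y * x) * y := by group
        _ = x * (x * y) * y := by rw [h3]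
        _ = x * x * (y * y) := by group
        _ = 1 := by rw [h1, h2, mul_one]
    have hxy1 : x * y ≠ 1 := fun e => h6 (by
      rw [← inv_eq_of_mul_eq_one_right e, inv_eq_of_mul_eq_one_right h1])
    have hF : Four c (x : G ⧸ K) (y : G ⧸ K) :=
      Four.quotient ⟨h1, h2, h3, h4, h5, h6, h7, h8, h9⟩ K (hnotK x h1 h4) (hnotK y h2 h5)
        (hnotK _ hxyy hxy1)
    have hcardQ : Nat.card (G ⧸ K) ∣ Nat.card G := by
      rw [← Subgroup.index_eq_card]; exact Subgroup.index_dvd_card K
    have hGK : (Nat.card (G ⧸ K)).factorization 2 ≤ a + 1 := le_trans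
      ((Nat.factorization_le_iff_dvd Nat.card_pos.ne' Nat.card_pos.ne').2 hcardQ 2) hG
    -- no odd normal subgroup in the quotient
    have hO : ∀ M : Subgroup (G ⧸ K), M.Normal → Odd (Nat.card M) → M = ⊥ := by
      intro M hM hModd
      have hle : M.comap (QuotientGroup.mk' K) ≤ K := by
        refine CfsgLib.le_pPrimeCore ?_
        refine Nat.coprime_two_right.2 ?_
        have h := Subgroup.index_comap_of_surjective M (QuotientGroup.mk'_surjective K)
        have e1 := Subgroup.card_mul_index (M.comap (QuotientGroup.mk' K))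
        have e2 := Subgroup.card_mul_index M
        have e3 := Subgroup.card_mul_index K
        rw [Subgroup.index_eq_card] at e3
        rw [h] at e1
        rw [← e2, ← mul_assoc] at e3
        have := Nat.eq_of_mul_eq_mul_right (Nat.pos_of_ne_zero Subgroup.index_ne_zero_of_finite)
          (e1.trans e3.symm)
        rw [this]
        exact hKodd.mul hModd
      rw [Subgroup.eq_bot_iff_forall]
      intro z hz
      obtain ⟨g, rfl⟩ := QuotientGroup.mk_surjective z
      exact (QuotientGroup.eq_one_iff g).2 (hle hz)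
    rw [← Subgroup.card_mul_index K, Subgroup.index_eq_card]
    refine Nat.mul_le_mul hK ?_
    -- centralizers of involutions commuting with the four group
    generalize hx' : (x : G ⧸ K) = x' at hF
    generalize hy' : (y : G ⧸ K) = y' at hF
    clear hx' hy'
    obtain ⟨g1, g2, g3, g4, g5, g6, g7, g8, g9⟩ := hF
    have hcen : ∀ u : G ⧸ K, u * u = 1 → u ≠ 1 → u * x' = x' * u → u * y' = y' * u →
        Nat.card (Subgroup.centralizer ({u} : Set (G ⧸ K))) ≤ C' := by
      intro u hu hu1 hux huy
      by_cases e1 : u = x'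
      · rw [e1]; exact g7.trans (le_max_left _ _)
      by_cases e2 : u = y'
      · rw [e2]; exact g8.trans (le_max_left _ _)
      by_cases e3 : u = x' * y'
      · rw [e3]; exact g9.trans (le_max_left _ _)
      refine le_trans ?_ (le_max_right _ _)
      set H := Subgroup.centralizer ({u} : Set (G ⧸ K)) with hH
      set X : H := ⟨x', Subgroup.mem_centralizer_singleton_iff.2 hux.symm⟩ with hX
      set Y : H := ⟨y', Subgroup.mem_centralizer_singleton_iff.2 huy.symm⟩ with hY
      set U : H := ⟨u, Subgroup.mem_centralizer_singleton_iff.2 rfl⟩ with hU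
      set Z := Subgroup.zpowers U with hZ
      have hUc : U ∈ Subgroup.center H := Subgroup.mem_center_iff.2 fun g =>
        Subtype.ext (Subgroup.mem_centralizer_singleton_iff.1 g.2)
      haveI : Z.Normal := ⟨fun z hz g => by
        rw [Subgroup.mem_center_iff.1 ((Subgroup.zpowers_le.2 hUc) hz) g, mul_inv_cancel_right]
        exact hz⟩
      have hUord : orderOf U = 2 := orderOf_eq_prime
        (by rw [pow_two]; exact Subtype.ext hu) (fun e => hu1 (congrArg Subtype.val e))
      have hZcard : Nat.card Z = 2 := by rw [Nat.card_zpowers, hUord]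
      have hZmem : ∀ z ∈ Z, (z : G ⧸ K) = 1 ∨ (z : G ⧸ K) = u := by
        intro z hz
        obtain ⟨n, rfl⟩ := Subgroup.mem_zpowers_iff.1 hz
        rw [← zpow_mod_orderOf, hUord]
        rcases Int.emod_two_eq_zero_or_one n with e | e
        · left
          push_cast
          rw [e, zpow_zero]
        · right
          push_cast
          rw [e, zpow_one]
      have hcl : ∀ v : H, Nat.card (Subgroup.centralizer ({v} : Set H)) ≤
          Nat.card (Subgroup.centralizer ({(v : G ⧸ K)} : Set (G ⧸ K))) := by
        intro v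
        refine Nat.card_le_card_of_injective (fun w : Subgroup.centralizer ({v} : Set H) =>
          (⟨((w : H) : G ⧸ K), Subgroup.mem_centralizer_singleton_iff.2
            (congrArg Subtype.val (Subgroup.mem_centralizer_singleton_iff.1 w.2))⟩ :
            Subgroup.centralizer ({(v : G ⧸ K)} : Set (G ⧸ K)))) fun w w' he => ?_
        have := congrArg Subtype.val he
        exact Subtype.ext (Subtype.ext this)
      have hFH : Four c X Y := by
        refine ⟨Subtype.ext g1, Subtype.ext g2, Subtype.ext g3,
          fun e => g4 (congrArg Subtype.val e), fun e => g5 (congrArg Subtype.val e),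
          fun e => g6 (congrArg Subtype.val e), (hcl X).trans g7, (hcl Y).trans g8, (hcl (X * Y)).trans g9⟩
      have hq := Four.quotient hFH Z
        (fun hz => (hZmem X hz).elim g4 (fun e => e1 e.symm))
        (fun hz => (hZmem Y hz).elim g5 (fun e => e2 e.symm))
        (fun hz => (hZmem _ hz).elim (fun e => g6 (by
          have e' : x' * y' = 1 := e
          rw [← inv_eq_of_mul_eq_one_right e', inv_eq_of_mul_eq_one_right g1]))
          (fun e => e3 e.symm))
      have hprod : Nat.card H = 2 * Nat.card (H ⧸ Z) := by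
        rw [← Subgroup.card_mul_index Z, hZcard, Subgroup.index_eq_card]
      have hfac : (Nat.card (H ⧸ Z)).factorization 2 ≤ a := by
        have hle : (Nat.card H).factorization 2 ≤ a + 1 := le_trans
          ((Nat.factorization_le_iff_dvd Nat.card_pos.ne' Nat.card_pos.ne').2
            (Subgroup.card_subgroup_dvd_card H) 2) hGK
        rw [hprod, Nat.factorization_mul two_ne_zero Nat.card_pos.ne', Finsupp.add_apply,
          Nat.prime_two.factorization_self] at hle
        omega
      rw [hprod]
      exact Nat.mul_le_mul_left 2 (hN₀ (H ⧸ Z) hfac _ _ hq)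
    -- a minimal normal subgroup
    haveI : Nontrivial (G ⧸ K) := ⟨⟨x', 1, g4⟩⟩
    obtain ⟨N, hNmin'⟩ := exists_minimal_of_wellFoundedLT
      (fun M : Subgroup (G ⧸ K) => M.Normal ∧ M ≠ ⊥) ⟨⊤, inferInstance, top_ne_bot⟩
    haveI hNn : N.Normal := hNmin'.1.1
    have hmin : MinNormal N := ⟨hNn, hNmin'.1.2, fun M hM hle => by
      by_cases hMb : M = ⊥
      · exact Or.inl hMb
      · exact Or.inr (le_antisymm hle (hNmin'.2 ⟨hM, hMb⟩ hle))⟩
    have hNeven : Even (Nat.card N) := by
      rw [← Nat.not_odd_iff_even]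
      exact fun ho => hmin.2.1 (hO N hNn ho)
    obtain ⟨u, huN, hu, hu1, hux, huy⟩ := exists_fixed_involution g1 g2 g3 N hNeven
    have hCu := hcen u hu hu1 hux huy
    have hNfac : (Nat.card N).factorization 2 ≤ a + 1 := le_trans
      ((Nat.factorization_le_iff_dvd Nat.card_pos.ne' Nat.card_pos.ne').2
        (Subgroup.card_subgroup_dvd_card N) 2) hGK
    have hNB : Nat.card N ≤ B := by
      by_cases hab : ∀ s t : N, s * t = t * s
      · refine le_trans ?_ (le_max_left _ _)
        let W : Subgroup (G ⧸ K) :=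
          { carrier := {w | w ∈ N ∧ w * w = 1}
            mul_mem' := fun {s t} hs ht => ⟨mul_mem hs.1 ht.1, by
              have hc : s * t = t * s := congrArg Subtype.val (hab ⟨s, hs.1⟩ ⟨t, ht.1⟩)
              calc s * t * (s * t) = s * (t * s) * t := by group
                _ = s * (s * t) * t := by rw [hc]
                _ = (s * s) * (t * t) := by group
                _ = 1 := by rw [hs.2, ht.2, mul_one]⟩
            one_mem' := ⟨one_mem N, mul_one 1⟩
            inv_mem' := fun {s} hs => ⟨inv_mem hs.1, by rw [← mul_inv_rev, hs.2, inv_one]⟩ }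
        have hWn : W.Normal := ⟨fun w hw g => ⟨hNn.conj_mem w hw.1 g, by
          calc g * w * g⁻¹ * (g * w * g⁻¹) = g * (w * w) * g⁻¹ := by group
            _ = 1 := by rw [hw.2]; group⟩⟩
        have hWeq : W = N := (hmin.2.2 W hWn fun w hw => hw.1).resolve_left fun e =>
          hu1 (by
            have : u ∈ W := ⟨huN, hu⟩
            rwa [e, Subgroup.mem_bot] at this)
        haveI : Fact (Nat.Prime 2) := ⟨Nat.prime_two⟩
        have hpg : IsPGroup 2 N := fun n => ⟨1, Subtype.ext (by
          have : (n : G ⧸ K) ∈ W := hWeq.symm ▸ n.2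
          rw [pow_one, pow_two, Subgroup.coe_mul, this.2, Subgroup.coe_one])⟩
        obtain ⟨k, hk⟩ := IsPGroup.iff_card.1 hpg
        rw [hk] at hNfac ⊢
        rw [Nat.prime_two.factorization_pow, Finsupp.single_eq_same] at hNfac
        exact Nat.pow_le_pow_right (by norm_num) hNfac
      · refine le_trans ?_ (le_max_right _ _)
        refine card_minNormal_le N hmin hab (u := ⟨u, huN⟩) (Subtype.ext hu)
          (fun e => hu1 (congrArg Subtype.val e)) ?_ hNfac
        refine le_trans (Nat.card_le_card_of_injective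
          (fun w : Subgroup.centralizer ({(⟨u, huN⟩ : N)} : Set N) =>
            (⟨((w : N) : G ⧸ K), Subgroup.mem_centralizer_singleton_iff.2
              (congrArg Subtype.val (Subgroup.mem_centralizer_singleton_iff.1 w.2))⟩ :
              Subgroup.centralizer ({u} : Set (G ⧸ K)))) fun w w' he => ?_) hCu
        have hval := congrArg Subtype.val he
        exact Subtype.ext (Subtype.ext hval)
    -- the action on the minimal normal subgroup
    let f : G ⧸ K → (N → N) := fun g n => MulAut.conjNormal (H := N) g n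
    refine le_trans (card_le_mul_of_fibres f C' fun g => ?_) (Nat.mul_le_mul_left _ ?_)
    · refine le_trans (Nat.card_le_card_of_injective
        (fun g' : {g' : G ⧸ K // f g' = f g} => (⟨g⁻¹ * g'.1, ?_⟩ :
          Subgroup.centralizer ({u} : Set (G ⧸ K)))) fun p q he => ?_) hCu
      · rw [Subgroup.mem_centralizer_singleton_iff]
        have h := congrArg Subtype.val (congrFun g'.2 ⟨u, huN⟩)
        simp only [f, MulAut.conjNormal_apply] at h
        calc g⁻¹ * g'.1 * u = g⁻¹ * (g'.1 * u * g'.1⁻¹) * g'.1 := by group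
          _ = g⁻¹ * (g * u * g⁻¹) * g'.1 := by rw [h]
          _ = u * (g⁻¹ * g'.1) := by group
      · have := congrArg Subtype.val he
        simp only [mul_right_inj] at this
        exact Subtype.ext this
    · rw [Nat.card_fun]
      exact le_trans (Nat.pow_le_pow_left hNB _) (Nat.pow_le_pow_right
        (lt_of_lt_of_le (pow_pos two_pos _) (le_max_left _ _)) hNB)

end CfsgLib.Deficiency
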