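import Cfsg.Agent.Lib.Deficiency.FourGroup
import Cfsg.Agent.S0941
import Cfsg.Agent.S0917
import Cfsg.Agent.S0936
import Cfsg.Agent.S0919
import Cfsg.Agent.Lib.Blocks.Proj
import Cfsg.Agent.Lib.Blocks.LocalBlocks

/-!
# Groups of bounded deficiency class for the prime two
-/

namespace CfsgLib.Deficiency

open Cfsg CfsgLib.CharTheory CfsgLib.Blocks

set_option linter.unusedVariables false
set_option linter.unusedSectionVars false
set_option linter.style.haveILetI false

universe u

/-- The deficiency class is below `r`. -/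
def Def2 (r : ℕ) (M : Ideal AlgInt) (G : Type u) [Group G] : Prop :=
  ∀ B : Set (IrrCharacter G), IsPBlock M B → B ≠ principalBlock M G → blockDefect 2 B < r

/-- An elementary abelian subgroup of order `2 ^ m`. -/
def Elem (m : ℕ) (G : Type u) [Group G] : Prop :=
  ∃ E : Subgroup G, (∀ x ∈ E, ∀ y ∈ E, x * y = y * x) ∧ (∀ x ∈ E, x * x = 1) ∧ Nat.card E = 2 ^ m

theorem card_conjClasses_le {G : Type u} [Group G] [Finite G] {M : Ideal AlgInt}
    (hM : IsPModular 2 M) {a : ℕ} (ha : (Nat.card G).factorization 2 ≤ a) (h : Def2 0 M G) :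
    Nat.card (ConjClasses G) ≤ (2 ^ a) ^ 2 + 4 := by
  classical
  haveI := Fintype.ofFinite G
  haveI := Fintype.ofFinite (IrrCharacter G)
  have hB : IsPBlock M (principalBlock M G) := principalBlock_isPBlock
  have hall : ∀ χ : IrrCharacter G, χ ∈ bset (principalBlock M G) := by
    intro χ
    rw [mem_bset]
    by_contra hne
    refine Nat.not_lt_zero _ (h (blockOf M (χ : G → ℂ)) (blockOf_isPBlock χ) fun e => hne ?_)
    rw [← e]
    exact mem_blockOf_self hM χ
  have hbf := brauer_feit hM hB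
  have h1 : ((bset (principalBlock M G)).card : ℤ) ≤ ∑ ψ ∈ bset (principalBlock M G),
      (((2 : ℕ) : ℤ) ^ (dv 2 (ψ : G → ℂ) - minDv 2 (principalBlock M G))) ^ 2 := by
    rw [← Nat.smul_one_eq_cast, ← Finset.sum_const]
    exact Finset.sum_le_sum fun ψ _ => one_le_pow₀ (one_le_pow₀ (by norm_num))
  have hd : blockDefect 2 (principalBlock M G) ≤ a := le_trans (Nat.sub_le _ _) ha
  have h2 : (((2 : ℕ) : ℤ) ^ blockDefect 2 (principalBlock M G)) ^ 2 ≤ ((2 : ℤ) ^ a) ^ 2 :=
    pow_le_pow_left₀ (by positivity) (pow_le_pow_right₀ (by norm_num) hd) 2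
  have hcard : (bset (principalBlock M G)).card = Nat.card (ConjClasses G) := by
    rw [← card_irr_eq_card_conjClasses, Nat.card_eq_fintype_card,
      Finset.eq_univ_iff_forall.2 hall, Finset.card_univ]
  have h3 : ((bset (principalBlock M G)).card : ℤ) ≤ ((2 : ℤ) ^ a) ^ 2 + 4 := by
    have : (0 : ℤ) ≤ (bset (principalBlock M G)).card := Nat.cast_nonneg _
    linarith
  rw [hcard] at h3
  exact_mod_cast h3

theorem def2_centralizer {G : Type u} [Group G] [Finite G] {M : Ideal AlgInt}
    (hM : IsPModular 2 M) {r : ℕ} (h : Def2 r M G) {t : G} (ht : orderOf t = 2) :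
    Def2 r M (Subgroup.centralizer ({t} : Set G)) := by
  classical
  haveI := Fintype.ofFinite G
  haveI : Fact (Nat.Prime 2) := ⟨Nat.prime_two⟩
  set H := Subgroup.centralizer ({t} : Set G) with hH
  intro b hb hne
  haveI := Fintype.ofFinite H
  have hH' : IsCentr t H := isCentr_singleton t
  have hdef : InducedBlockDefined M H b :=
    Cfsg.Agent.S0919.result 2 M hM (Subgroup.zpowers t) H
      (isPGroup_zpowers Nat.prime_two ⟨1, by rw [ht, pow_one]⟩)
      (Subgroup.zpowers_le.2 hH'.self_mem) hH'.centralizer_zpowers_le hH'.le_normalizer b hb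
  obtain ⟨B, hind⟩ := hdef
  have hB : IsPBlock M B := hind.2.1
  have hBne : B ≠ principalBlock M G := fun e =>
    hne ((Cfsg.Agent.S0936.result 2 M hM H b ⟨B, hind⟩).1 (e ▸ hind))
  obtain ⟨D, hD⟩ := exists_defectGroup hM hb
  obtain ⟨E, hE, hDE⟩ := Cfsg.Agent.S0917.result 2 M hM H b hb B hB hind D hD
  have h1 := Subgroup.card_le_of_le hDE
  rw [Subgroup.card_map_of_injective H.subtype_injective, card_defectGroup hM hb hD,
    card_defectGroup hM hB hE] at h1
  exact lt_of_le_of_lt ((Nat.pow_le_pow_iff_right Nat.prime_two.one_lt).1 h1) (h B hB hBne)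

theorem def2_quotient {H : Type u} [Group H] [Finite H] {M : Ideal AlgInt}
    (hM : IsPModular 2 M) {r : ℕ} (h : Def2 (r + 1) M H) (Z : Subgroup H) [Z.Normal]
    (hZc : Z ≤ Subgroup.center H) (hZ : Nat.card Z = 2) : Def2 r M (H ⧸ Z) := by
  classical
  haveI := Fintype.ofFinite H
  haveI : Fact (Nat.Prime 2) := ⟨Nat.prime_two⟩
  haveI := Fintype.ofFinite (H ⧸ Z)
  intro B hB hne
  have hC : (Subgroup.centralizer (Z : Set H)).index = 2 ^ 0 := by
    rw [pow_zero, Subgroup.index_eq_one, eq_top_iff]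
    intro g _
    rw [Subgroup.mem_centralizer_iff]
    exact fun z hz => (Subgroup.mem_center_iff.1 (hZc hz) g).symm
  obtain ⟨hiff, -⟩ := Cfsg.Agent.S0941.result 2 M hM Z
    (IsPGroup.of_card (n := 1) (by rw [hZ, pow_one])) ⟨0, hC⟩
  obtain ⟨χ₁, hχ₁, hmin⟩ := exists_height_zero hM hB
  let θ : IrrCharacter H := ⟨(χ₁ : H ⧸ Z → ℂ) ∘ QuotientGroup.mk,
    isIrrCharacter_comp_surjective χ₁.2 (QuotientGroup.mk' Z) (QuotientGroup.mk'_surjective Z)⟩
  have hbne : blockOf M (θ : H → ℂ) ≠ principalBlock M H := by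
    intro e
    refine hne ?_
    have h1 : θ ∈ principalBlock M H := e ▸ mem_blockOf_self hM θ
    have h2 : SameBlock M (fun _ : H ⧸ Z => (1 : ℂ)) (χ₁ : H ⧸ Z → ℂ) :=
      (hiff ⟨fun _ => 1, isIrrCharacter_one⟩ χ₁).2 h1
    exact (eq_blockOf hM hB hχ₁).trans
      (eq_blockOf hM principalBlock_isPBlock (h2 : χ₁ ∈ principalBlock M (H ⧸ Z))).symm
  have hlt := h _ (blockOf_isPBlock θ) hbne
  have hfac : (Nat.card H).factorization 2 = (Nat.card (H ⧸ Z)).factorization 2 + 1 := by
    rw [← Subgroup.card_mul_index Z, hZ, Subgroup.index_eq_card,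
      Nat.factorization_mul two_ne_zero Nat.card_pos.ne', Finsupp.add_apply,
      Nat.prime_two.factorization_self, add_comm]
  have hdv : dv 2 (θ : H → ℂ) = dv 2 (χ₁ : H ⧸ Z → ℂ) := by
    simp [dv, charDegree, θ]
  have hm : minDv 2 (blockOf M (θ : H → ℂ)) ≤ minDv 2 B := by
    rw [← hmin, ← hdv]
    exact minDv_le (mem_blockOf_self hM θ)
  have hcard := minDv_le_card hM hB
  rw [blockDefect_eq] at hlt ⊢
  omega

theorem bound_deficiency : ∀ r a : ℕ, ∃ N : ℕ, ∀ (G : Type u) [Group G] [Finite G]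
    (M : Ideal AlgInt), IsPModular 2 M → (Nat.card G).factorization 2 ≤ a → Def2 r M G →
      Elem (r + 1) G → Nat.card G ≤ N := by
  intro r
  induction r with
  | zero =>
    intro a
    obtain ⟨N, hN⟩ := landau.{u} ((2 ^ a) ^ 2 + 4)
    exact ⟨N, fun G _ _ M hM ha h _ => hN G (card_conjClasses_le hM ha h)⟩
  | succ r ih =>
    intro a
    obtain ⟨N₀, hN₀⟩ := ih a
    obtain ⟨N, hN⟩ := bound_four.{u} a (2 * N₀)
    refine ⟨N, fun G _ _ M hM ha h hE => ?_⟩
    classical
    obtain ⟨E, hEc, hE2, hEcard⟩ := hE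
    have hcen : ∀ t ∈ E, t ≠ 1 → Nat.card (Subgroup.centralizer ({t} : Set G)) ≤ 2 * N₀ := by
      intro t htE ht1
      have hord : orderOf t = 2 := orderOf_eq_prime (by rw [pow_two]; exact hE2 t htE) ht1
      set H := Subgroup.centralizer ({t} : Set G) with hH
      have hHE : E ≤ H := fun e he =>
        Subgroup.mem_centralizer_singleton_iff.2 (hEc e he t htE)
      set T : H := ⟨t, hHE htE⟩ with hT
      set Z := Subgroup.zpowers T with hZ
      have hTc : T ∈ Subgroup.center H := Subgroup.mem_center_iff.2 fun g =>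
        Subtype.ext (Subgroup.mem_centralizer_singleton_iff.1 g.2)
      have hZc : Z ≤ Subgroup.center H := Subgroup.zpowers_le.2 hTc
      haveI : Z.Normal := ⟨fun z hz g => by
        rw [Subgroup.mem_center_iff.1 (hZc hz) g, mul_inv_cancel_right]; exact hz⟩
      have hZcard : Nat.card Z = 2 := by
        rw [Nat.card_zpowers, ← hord, hT, Subgroup.orderOf_mk]
      have hdef := def2_quotient hM (def2_centralizer hM h hord) Z hZc hZcard
      have hprod : Nat.card H = 2 * Nat.card (H ⧸ Z) := by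
        rw [← Subgroup.card_mul_index Z, hZcard, Subgroup.index_eq_card]
      have hfac : (Nat.card (H ⧸ Z)).factorization 2 ≤ a := le_trans
        ((Nat.factorization_le_iff_dvd Nat.card_pos.ne' Nat.card_pos.ne').2
          (((Subgroup.index_eq_card Z).symm ▸ Subgroup.index_dvd_card Z).trans
            (Subgroup.card_subgroup_dvd_card H)) 2) ha
      have hEl : Elem (r + 1) (H ⧸ Z) := by
        set E' := E.subgroupOf H with hE'
        have hE'card : Nat.card E' = 2 ^ (r + 1 + 1) := by
          rw [hE', Nat.card_congr (Subgroup.subgroupOfEquivOfLe hHE).toEquiv, hEcard]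
        have hTE' : T ∈ E' := Subgroup.mem_subgroupOf.2 htE
        refine ⟨E'.map (QuotientGroup.mk' Z), ?_, ?_, ?_⟩
        · rintro _ ⟨x, hx, rfl⟩ _ ⟨y, hy, rfl⟩
          rw [← map_mul, ← map_mul]
          exact congrArg _ (Subtype.ext (hEc _ (Subgroup.mem_subgroupOf.1 hx) _
            (Subgroup.mem_subgroupOf.1 hy)))
        · rintro _ ⟨x, hx, rfl⟩
          rw [← map_mul, show x * x = 1 from Subtype.ext (hE2 _ (Subgroup.mem_subgroupOf.1 hx)),
            map_one]
        · have hle : Z ≤ E' := Subgroup.zpowers_le.2 hTE'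
          have h1 : (E'.map (QuotientGroup.mk' Z)).index = E'.index :=
            Subgroup.index_map_eq _ (QuotientGroup.mk'_surjective Z)
              (by rwa [QuotientGroup.ker_mk'])
          have e1 := Subgroup.card_mul_index (E'.map (QuotientGroup.mk' Z))
          have e2 := Subgroup.card_mul_index E'
          rw [h1] at e1
          rw [hE'card, hprod, ← e1, ← mul_assoc] at e2
          have h2 := Nat.eq_of_mul_eq_mul_right
            (Nat.pos_of_ne_zero Subgroup.index_ne_zero_of_finite) e2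
          rw [pow_succ, mul_comm] at h2
          exact (Nat.eq_of_mul_eq_mul_left two_pos h2).symm
      rw [hprod]
      exact Nat.mul_le_mul_left 2 (hN₀ (H ⧸ Z) M hM hfac hdef hEl)
    have h4 : 4 ≤ Nat.card E := by
      rw [hEcard, pow_succ, pow_succ]
      have : 0 < 2 ^ r := by positivity
      omega
    obtain ⟨x, hx⟩ : ∃ x : E, x ≠ 1 := by
      haveI : Nontrivial E := Finite.one_lt_card_iff_nontrivial.1 (by omega)
      exact exists_ne 1
    obtain ⟨y, hy1, hyx⟩ : ∃ y : E, y ≠ 1 ∧ y ≠ x := by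
      by_contra hc
      push Not at hc
      haveI := Fintype.ofFinite E
      have : (Finset.univ : Finset E) ⊆ {1, x} := fun z _ => by
        by_cases hz : z = 1
        · simp [hz]
        · simp [hc z hz]
      have h5 := Finset.card_le_card this
      rw [Finset.card_univ, ← Nat.card_eq_fintype_card] at h5
      have := Finset.card_le_two (a := (1 : E)) (b := x)
      omega
    have hxy : (x : G) * y ≠ 1 := fun e => hyx (by
      have h5 := inv_eq_of_mul_eq_one_right e
      rw [inv_eq_of_mul_eq_one_right (hE2 _ x.2)] at h5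
      exact Subtype.ext h5.symm)
    refine hN G ha (x : G) y ⟨hE2 _ x.2, hE2 _ y.2, hEc _ x.2 _ y.2,
      fun e => hx (Subtype.ext e), fun e => hy1 (Subtype.ext e), fun e => hyx (Subtype.ext e.symm),
      hcen _ x.2 fun e => hx (Subtype.ext e), hcen _ y.2 fun e => hy1 (Subtype.ext e),
      hcen _ (mul_mem x.2 y.2) hxy⟩

end CfsgLib.Deficiency
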